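import Cfsg.Prelude.Def_Local
import Cfsg.Agent.S0518
import Cfsg.Agent.S0112
import Cfsg.Agent.S0115
import Cfsg.Agent.S4399
import Cfsg.Agent.S0218
import Cfsg.Agent.Invol.StrongEmbedded
import Cfsg.Agent.ZCGroup.Main
import Cfsg.Agent.CharTwoS4.Model

/-!
# Solvable 2-locals: consequences of characteristic 2 type for the odd residual

`H = O²(G)` inherits a strongly embedded subgroup; otherwise it has a self-centralizing four-group,
so its Sylow 2-subgroups are dihedral or semidihedral (part of S3758).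
-/

set_option autoImplicit false

universe u

namespace CfsgLib.SolvTwoLocals

open Subgroup

variable {G : Type u} [Group G] [Finite G]

omit [Finite G] in
theorem pResidual_eq : Cfsg.pResidual 2 G = Subgroup.closure {g : G | Odd (orderOf g)} := by
  unfold Cfsg.pResidual
  exact congrArg Subgroup.closure (Set.ext fun g => Nat.coprime_two_right)

/-- A strongly embedded subgroup contains a Sylow 2-subgroup. -/
theorem exists_sylow_le {K : Subgroup G} (hK : Cfsg.IsStronglyEmbedded K) :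
    ∃ S : Sylow 2 G, (S : Subgroup G) ≤ K := by
  haveI : Fact (Nat.Prime 2) := ⟨Nat.prime_two⟩
  obtain ⟨a, haK, ha⟩ := CfsgLib.StrongEmbed.exists_invol hK
  obtain ⟨S, hS⟩ := (IsPGroup.of_card (p := 2) (n := 1)
    (by rw [Nat.card_zpowers, ha, pow_one]) : IsPGroup 2 (zpowers a)).exists_le_sylow
  have haS : a ∈ (S : Subgroup G) := hS (mem_zpowers a)
  haveI : Nontrivial (S : Subgroup G) :=
    (nontrivial_iff_ne_bot _).2 fun h => by
      rw [h, mem_bot] at haS
      rw [haS, orderOf_one] at ha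
      omega
  haveI := S.2.center_nontrivial
  have h2 : 2 ∣ Nat.card (center (S : Subgroup G)) := by
    obtain ⟨k, hk⟩ := (S.2.to_subgroup (center (S : Subgroup G))).exists_card_eq
    rw [hk]
    refine dvd_pow_self 2 fun e0 => ?_
    have := Finite.one_lt_card (α := center (S : Subgroup G))
    rw [hk, e0] at this
    omega
  obtain ⟨z, hz⟩ := exists_prime_orderOf_dvd_card' 2 h2
  rw [← orderOf_coe, ← orderOf_coe] at hz
  have hzc : ∀ s : G, s ∈ (S : Subgroup G) → Commute s ((z : (S : Subgroup G)) : G) := fun s hs =>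
    congrArg Subtype.val (mem_center_iff.1 z.2 ⟨s, hs⟩)
  have hzK : ((z : (S : Subgroup G)) : G) ∈ K :=
    CfsgLib.StrongEmbed.mem_of_commute hK haK ha (hzc a haS).symm
  exact ⟨S, fun s hs => CfsgLib.StrongEmbed.mem_of_commute hK hzK hz (hzc s hs)⟩

/-- A normal subgroup of even order inherits a strongly embedded subgroup. -/
theorem normal_stronglyEmbedded (H : Subgroup G) [H.Normal] (hH : Even (Nat.card H))
    {K : Subgroup G} (hK : Cfsg.IsStronglyEmbedded K) :
    ∃ M : Subgroup ↥H, Cfsg.IsStronglyEmbedded M := by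
  haveI : Fact (Nat.Prime 2) := ⟨Nat.prime_two⟩
  obtain ⟨S, hSK⟩ := exists_sylow_le hK
  obtain ⟨P, hP⟩ := ZCGroup.exists_sylow_inf S H
  obtain ⟨x, hx⟩ := exists_prime_orderOf_dvd_card' (G := (P : Subgroup H)) 2
    (P.dvd_card_of_dvd_card (even_iff_two_dvd.1 hH))
  have hxS : ((x : H) : G) ∈ (S : Subgroup G) := mem_subgroupOf.1 (hP.le x.2)
  have hxo : orderOf ((x : H) : G) = 2 := by rw [orderOf_coe, orderOf_coe, hx]
  have hUS : (P : Subgroup H).map H.subtype ≤ (S : Subgroup G) := by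
    rw [hP, subgroupOf_map_subtype]
    exact inf_le_left
  have hNU : normalizer (((P : Subgroup H).map H.subtype : Subgroup G) : Set G) ≤ K := fun g hg =>
    CfsgLib.StrongEmbed.mem_of_conj_mem hK (hSK hxS) hxo (by
      have := (mem_normalizer_iff.1 (inv_mem hg) ((x : H) : G)).1 ⟨_, x.2, rfl⟩
      rw [inv_inv] at this
      exact hSK (hUS this))
  refine ⟨K.subgroupOf H, ZCGroup.stronglyEmbedded_subgroupOf hK (fun h => hK.1 (top_le_iff.1 ?_))
    (even_iff_two_dvd.2 ?_)⟩
  · rw [← Sylow.normalizer_sup_eq_top P]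
    exact sup_le hNU h
  · rw [← hxo]
    exact orderOf_dvd_natCard _ ⟨hSK hxS, (x : H).2⟩

/-- Strong embedding is preserved by isomorphisms. -/
theorem stronglyEmbedded_equiv {A B : Type*} [Group A] [Group B] (e : A ≃* B) {M : Subgroup A}
    (h : Cfsg.IsStronglyEmbedded M) : Cfsg.IsStronglyEmbedded (M.map e.toMonoidHom) := by
  refine ⟨fun ht => h.1 (Subgroup.map_injective (f := e.toMonoidHom) e.injective
    (ht.trans (map_top_of_surjective e.toMonoidHom e.surjective).symm)), ?_, fun g hg => ?_⟩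
  · rw [card_map_of_injective (f := e.toMonoidHom) e.injective]
    exact h.2.1
  · have hg' : e.symm g ∉ M := fun hm => hg ⟨_, hm, e.apply_symm_apply g⟩
    have hc : (M.map e.toMonoidHom).map (MulAut.conj g).toMonoidHom =
        (M.map (MulAut.conj (e.symm g)).toMonoidHom).map e.toMonoidHom := by
      rw [map_map, map_map]
      congr 1
      ext x
      simp
    rw [hc, ← map_inf_eq _ _ e.toMonoidHom e.injective,
      card_map_of_injective (f := e.toMonoidHom) e.injective]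
    exact h.2.2 _ hg'

/-- A 2-group with a self-centralizing four-group is dihedral or semidihedral. -/
theorem shape_of_four {R : Type u} [Group R] [Finite R] (hR : IsPGroup 2 R) (A : Subgroup R)
    [IsKleinFour A] (hC : centralizer (A : Set R) = A) :
    (∃ n : ℕ, 2 ≤ n ∧ Nonempty (R ≃* DihedralGroup n)) ∨ Cfsg.IsQuasiDihedral R := by
  haveI : Fact (Nat.Prime 2) := ⟨Nat.prime_two⟩
  obtain ⟨n, hn⟩ := IsPGroup.iff_card.1 hR
  have hA4 : Nat.card A = 2 ^ 2 := by rw [IsKleinFour.card_four]; norm_num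
  have hn2 : 2 ≤ n := (Nat.pow_le_pow_iff_right (a := 2) Nat.one_lt_two).1
    (hn ▸ hA4 ▸ Subgroup.card_le_card_group A)
  rcases hn2.eq_or_lt with e | hn3
  · subst e
    have hAS : A = ⊤ := eq_top_of_card_eq A (hA4.trans hn.symm)
    haveI : IsKleinFour R := by
      refine ⟨hn.trans (by norm_num), ?_⟩
      rw [← Monoid.exponent_eq_of_mulEquiv (Subgroup.topEquiv (G := R)), ← hAS,
        IsKleinFour.exponent_two]
    exact Or.inl ⟨2, le_rfl, IsKleinFour.nonempty_mulEquiv⟩
  have hcl := Cfsg.Agent.S0112.result n hn A hA4 hC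
  haveI hab := (Cfsg.Agent.S0115.result n hn3 hn).1 hcl
  rcases Cfsg.Agent.S4399.result hR hab.card_four
    (fun x => (pow_two x).trans (IsKleinFour.mul_self (G := R ⧸ commutator R) x)) with
    h4 | ⟨k, e⟩ | ⟨k, hk, x, y, hx, hy, hxy⟩ | ⟨k, ⟨e⟩⟩
  · rw [h4] at hn
    exact absurd hn (by
      have := Nat.pow_le_pow_right (show 0 < 2 by norm_num) hn3
      norm_num at this; omega)
  · exact Or.inl ⟨_, (Nat.pow_le_pow_right two_pos (by omega : 1 ≤ k + 2)).trans_eq' (by norm_num), e⟩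
  · exact Or.inr ⟨k + 3, by omega, hk, x, y, hx, hy, hxy⟩
  · exfalso
    obtain ⟨hsub, -⟩ := Nat.card_eq_one_iff_unique.1 (Cfsg.Agent.S0218.result k)
    have hord : ∀ a : A, a ≠ 1 → orderOf (e (a : R)) = 2 := fun a ha => by
      rw [MulEquiv.orderOf_eq, orderOf_coe]
      exact orderOf_eq_prime ((pow_two a).trans (IsKleinFour.mul_self a)) ha
    classical
    haveI := Fintype.ofFinite A
    have h3 : 1 < (Finset.univ.erase (1 : A)).card := by
      rw [Finset.card_erase_of_mem (Finset.mem_univ _), Finset.card_univ, ← Nat.card_eq_fintype_card,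
        IsKleinFour.card_four]
      norm_num
    obtain ⟨a, ha, b, hb, hab'⟩ := Finset.one_lt_card.1 h3
    exact hab' (Subtype.ext (e.injective (congrArg Subtype.val (hsub.elim
      ⟨_, hord a (Finset.ne_of_mem_erase ha)⟩ ⟨_, hord b (Finset.ne_of_mem_erase hb)⟩))))

open CfsgLib.CharTwoS4 in
theorem inK_of_normal : ∀ t : Equiv.Perm (Fin 4), t ^ 4 = 1 →
    (∀ g : Equiv.Perm (Fin 4), (g * t * g⁻¹ * t) ^ 4 = 1) → InK t := by decide +kernel

open CfsgLib.CharTwoS4 in
theorem pow_four_of_two : ∀ t : Equiv.Perm (Fin 4), t ^ 8 = 1 → t ^ 4 = 1 := by decide +kernel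

theorem order_bound : ∀ t : Equiv.Perm (Fin 4), t ^ 12 = 1 := by decide +kernel

/-- A maximal 2-local isomorphic to `S₄` gives a self-centralizing four-group. -/
theorem four_of_symm {M : Subgroup G} (hM : Cfsg.IsTwoLocal M) (e : M ≃* Equiv.Perm (Fin 4)) :
    ∃ A : Subgroup G, IsKleinFour A ∧ centralizer (A : Set G) = A := by
  obtain ⟨T, hT, hT1, hMT⟩ := hM
  have hTM : T ≤ M := hMT ▸ le_normalizer
  set f : T →* Equiv.Perm (Fin 4) := e.toMonoidHom.comp (Subgroup.inclusion hTM) with hf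
  have hfi : Function.Injective f := e.injective.comp (Subgroup.inclusion_injective hTM)
  have hpow : ∀ t : T, f t ^ 4 = 1 := fun t => by
    obtain ⟨k, hk⟩ := hT t
    have h1 : orderOf (f t) ∣ 2 ^ k := orderOf_dvd_of_pow_eq_one (by rw [← map_pow, hk, map_one])
    have h2 : orderOf (f t) ∣ 12 := orderOf_dvd_of_pow_eq_one (order_bound _)
    obtain ⟨j, -, hj⟩ := (Nat.dvd_prime_pow Nat.prime_two).1 h1
    refine orderOf_dvd_iff_pow_eq_one.1 ?_
    rw [hj] at h2 ⊢
    have hj2 : j ≤ 2 := by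
      by_contra hlt
      have : 2 ^ 3 ∣ 12 := (pow_dvd_pow 2 (by omega : 3 ≤ j)).trans h2
      norm_num at this
    exact (pow_dvd_pow 2 hj2).trans (by norm_num)
  have hconj : ∀ (g : Equiv.Perm (Fin 4)) (t : T), ∃ t' : T, f t' = g * f t * g⁻¹ := fun g t => by
    have hg : ((e.symm g : M) : G) ∈ normalizer (T : Set G) := hMT ▸ (e.symm g).2
    refine ⟨⟨_, (mem_normalizer_iff.1 hg t).1 t.2⟩, ?_⟩
    show e _ = g * e _ * g⁻¹
    conv_rhs => rw [show g = e (e.symm g) from (e.apply_symm_apply g).symm]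
    rw [← map_inv, ← map_mul, ← map_mul]
    rfl
  have hK : ∀ t : T, CharTwoS4.InK (f t) := fun t => inK_of_normal _ (hpow t) fun g => by
    obtain ⟨t', ht'⟩ := hconj g t
    rw [← ht', ← map_mul]
    exact hpow _
  have hsurj : ∀ k, CharTwoS4.InK k → ∃ t : T, f t = k := fun k hk => by
    rcases eq_or_ne k 1 with rfl | hk1
    · exact ⟨1, map_one f⟩
    haveI := (nontrivial_iff_ne_bot T).2 hT1
    obtain ⟨⟨t, ht⟩, ht1⟩ := exists_ne (1 : T)
    obtain ⟨σ, -, hσ⟩ := CharTwoS4.inK_trans _ k (hK ⟨t, ht⟩) hk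
      (fun h => ht1 (hfi (h.trans (map_one f).symm))) hk1
    obtain ⟨t', ht'⟩ := hconj σ ⟨t, ht⟩
    exact ⟨t', ht'.trans hσ⟩
  have hc4 : Nat.card T = 4 := by
    rw [← CharTwoS4.card_inK]
    exact Nat.card_eq_of_bijective (fun t : T => (⟨f t, hK t⟩ : {σ // CharTwoS4.InK σ}))
      ⟨fun a b h => hfi (congrArg Subtype.val h),
        fun ⟨k, hk⟩ => (hsurj k hk).imp fun t ht => Subtype.ext ht⟩
  have hsq : ∀ t : T, t * t = 1 := fun t => hfi (by rw [map_mul, map_one]; exact (hK t).1)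
  refine ⟨T, ⟨hc4, ?_⟩, le_antisymm (fun g hg => ?_) (fun g hg => ?_)⟩
  · haveI : Nontrivial T := (nontrivial_iff_ne_bot T).2 hT1
    refine ((Nat.dvd_prime Nat.prime_two).1 (Monoid.exponent_dvd_of_forall_pow_eq_one fun t =>
      (pow_two t).trans (hsq t))).resolve_left fun h => ?_
    exact one_ne_zero' (α := ℕ) (by
      have := (Monoid.exp_eq_one_iff).1 h
      have h1 := Finite.one_lt_card (α := T)
      rw [Nat.card_unique] at h1
      omega)
  · have hgM : g ∈ M := hMT ▸ centralizer_le_normalizer _ hg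
    have hK' : CharTwoS4.InK (e ⟨g, hgM⟩) := CharTwoS4.inK_of_centralizes _ fun k hk => by
      obtain ⟨t, rfl⟩ := hsurj k hk
      show e ⟨g, hgM⟩ * e _ = e _ * e ⟨g, hgM⟩
      rw [← map_mul, ← map_mul]
      exact congrArg e (Subtype.ext (mem_centralizer_iff.1 hg t t.2).symm)
    obtain ⟨t, ht⟩ := hsurj _ hK'
    have : (t : G) = g := congrArg (fun m : M => (m : G)) (e.injective ht)
    exact this ▸ t.2
  · exact mem_centralizer_iff.2 fun t ht => by
      have := fun a b : T => (show a * b = b * a from hfi (by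
        rw [map_mul, map_mul]; exact (CharTwoS4.inK_mul _ _ (hK a) (hK b)).2))
      exact congrArg Subtype.val (this ⟨t, ht⟩ ⟨g, hg⟩)

/-- A self-centralizing four-group of `H` fixes the shape of every Sylow 2-subgroup of `H`. -/
theorem sylow_shape {H : Type u} [Group H] [Finite H] (A : Subgroup H) [IsKleinFour A]
    (hC : centralizer (A : Set H) = A) (P : Sylow 2 H) :
    (∃ n : ℕ, 2 ≤ n ∧ Nonempty ((P : Subgroup H) ≃* DihedralGroup n)) ∨
      Cfsg.IsQuasiDihedral (P : Subgroup H) := by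
  haveI : Fact (Nat.Prime 2) := ⟨Nat.prime_two⟩
  have hA : IsPGroup 2 A := IsPGroup.of_card (n := 2) (by rw [IsKleinFour.card_four]; norm_num)
  obtain ⟨Q, hAQ⟩ := hA.exists_le_sylow
  obtain ⟨g, hg⟩ := MulAction.exists_smul_eq H P Q
  have e : (P : Subgroup H) ≃* (Q : Subgroup H) := hg ▸ Sylow.equivSMul P g
  haveI : IsKleinFour (A.subgroupOf (Q : Subgroup H)) :=
    ⟨(Nat.card_congr (subgroupOfEquivOfLe hAQ).toEquiv).trans IsKleinFour.card_four,
      (Monoid.exponent_eq_of_mulEquiv (subgroupOfEquivOfLe hAQ)).trans IsKleinFour.exponent_two⟩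
  have hC' : centralizer (A.subgroupOf (Q : Subgroup H) : Set (Q : Subgroup H)) =
      A.subgroupOf (Q : Subgroup H) := by
    refine le_antisymm (fun x hx => mem_subgroupOf.2 (hC.le (mem_centralizer_iff.2 fun a ha =>
      congrArg Subtype.val (mem_centralizer_iff.1 hx ⟨a, hAQ ha⟩ (mem_subgroupOf.2 ha))))) ?_
    exact fun x hx => mem_centralizer_iff.2 fun a ha =>
      Subtype.ext (mem_centralizer_iff.1 (hC.ge (mem_subgroupOf.1 hx)) a (mem_subgroupOf.1 ha))
  rcases shape_of_four Q.2 _ hC' with ⟨n, hn, ⟨f⟩⟩ | ⟨n, hn, hc, x, y, hx, hy, hxy⟩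
  · exact Or.inl ⟨n, hn, ⟨e.trans f⟩⟩
  · refine Or.inr ⟨n, hn, (Nat.card_congr e.toEquiv).trans hc, e.symm x, e.symm y,
      (e.symm.orderOf_eq x).trans hx, (e.symm.orderOf_eq y).trans hy, ?_⟩
    rw [← map_inv, ← map_mul, ← map_mul, hxy, map_pow]

/-- The characteristic 2 case of S3758, in a normal subgroup `K` over the odd residual. -/
theorem charTwo_case (K : Subgroup G) [K.Normal] (hHK : Cfsg.pResidual 2 G ≤ K)
    (hH : Even (Nat.card ↥(Cfsg.pResidual 2 G)))
    (hL : Cfsg.IsCharacteristicTwoType ↥K)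
    (hN : ∀ N : Subgroup G, Cfsg.IsTwoLocal N → Group.IsSolvable N)
    (hZ : ∀ S : Sylow 2 G, centralizer (ZCGroup.omegaZ (S : Subgroup G) : Set G) ≤
      normalizer ((S : Subgroup G) : Set G))
    (hZK : ∀ S : Sylow 2 G, ZCGroup.omegaZ (S : Subgroup G) ≤ K)
    (hO : Cfsg.pCore 2 G = ⊥) (S : Sylow 2 G) :
    (∃ M : Subgroup ↥(Cfsg.pResidual 2 G), Cfsg.IsStronglyEmbedded M) ∨
      ((∃ n : ℕ, 2 ≤ n ∧ Nonempty (↥((S : Subgroup G) ⊓ Cfsg.pResidual 2 G) ≃* DihedralGroup n)) ∨
        Cfsg.IsQuasiDihedral ↥((S : Subgroup G) ⊓ Cfsg.pResidual 2 G)) := by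
  haveI : Fact (Nat.Prime 2) := ⟨Nat.prime_two⟩
  have hN' : ∀ N : Subgroup ↥K, Cfsg.IsTwoLocal N → Group.IsSolvable N := by
    rintro N ⟨T, hT, hT1, rfl⟩
    haveI := hN _ ⟨T.map K.subtype, hT.map _,
      fun h => hT1 ((map_eq_bot_iff_of_injective _ K.subtype_injective).1 h), rfl⟩
    refine Group.isSolvable_of_isSolvable_injective
      (f := (K.subtype.comp (normalizer (T : Set ↥K)).subtype).codRestrict
        (normalizer ((T.map K.subtype : Subgroup G) : Set G))
        (fun c => le_normalizer_map K.subtype ⟨(c : ↥K), c.2, rfl⟩)) fun a b hab =>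
      Subtype.ext (Subtype.ext (congrArg
        (fun w : normalizer ((T.map K.subtype : Subgroup G) : Set G) => (w : G)) hab))
  have hZ' : ∀ T : Sylow 2 ↥K,
      centralizer {z : ↥K | z ∈ (T : Subgroup ↥K) ∧ z ^ 2 = 1 ∧
        ∀ s ∈ (T : Subgroup ↥K), s * z = z * s} ≤ normalizer ((T : Subgroup ↥K) : Set ↥K) := by
    intro T c hc
    obtain ⟨S', hS'⟩ := (T.2.map K.subtype).exists_le_sylow
    have hT : (S' : Subgroup G).subgroupOf K = (T : Subgroup ↥K) :=
      T.3 (S'.2.comap_of_injective K.subtype K.subtype_injective) fun x hx => hS' ⟨x, hx, rfl⟩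
    have hc' : (c : G) ∈ normalizer ((S' : Subgroup G) : Set G) :=
      hZ S' (mem_centralizer_iff.2 fun z hz => congrArg Subtype.val (mem_centralizer_iff.1 hc
        ⟨z, hZK S' hz⟩ ⟨hT ▸ hz.1, Subtype.ext ((pow_two z).trans hz.2.2), fun s hs =>
          Subtype.ext (hz.2.1 (s : G) (hS' ⟨s, hs, rfl⟩)).eq⟩))
    rw [← hT]
    exact mem_normalizer_iff.2 fun y => mem_normalizer_iff.1 hc' (y : G)
  set H := Cfsg.pResidual 2 G with hHdef
  set N := H.subgroupOf K with hNdef
  have hres : N = Subgroup.closure {g : ↥K | Odd (orderOf g)} := by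
    refine Subgroup.map_injective K.subtype_injective ?_
    rw [MonoidHom.map_closure, hNdef, subgroupOf_map_subtype, inf_eq_left.2 hHK, hHdef, pResidual_eq]
    congr 1
    ext x
    refine ⟨fun hx => ⟨⟨x, hHK (hHdef ▸ pResidual_eq (G := G) ▸ subset_closure hx)⟩, ?_, rfl⟩, ?_⟩
    · show Odd (orderOf _)
      rwa [← orderOf_coe]
    · rintro ⟨y, hy, rfl⟩
      show Odd (orderOf (y : G))
      rwa [orderOf_coe]
  haveI : H.Normal := CfsgLib.PResidual.pResidual_normal 2
  haveI : N.Normal := by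
    rw [hNdef]
    infer_instance
  have eN : ↥N ≃* ↥H := subgroupOfEquivOfLe hHK
  rcases Cfsg.Agent.S0518.result hL (ZCGroup.pCore_normal_eq_bot hO) hN' hZ' N hres with
    ⟨L, hL'⟩ | ⟨M₁, -, -, hM₁, -, ⟨e⟩, -, -⟩
  · obtain ⟨M, hM⟩ := normal_stronglyEmbedded N (by rwa [Nat.card_congr eN.toEquiv]) hL'
    exact Or.inl ⟨_, stronglyEmbedded_equiv eN hM⟩
  right
  obtain ⟨A, hA, hC⟩ := four_of_symm hM₁.1 e
  obtain ⟨T, hT⟩ := ZCGroup.exists_sylow_inf S K
  obtain ⟨P, hP⟩ := ZCGroup.exists_sylow_inf T N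
  have hi : Function.Injective (K.subtype.comp N.subtype) :=
    K.subtype_injective.comp N.subtype_injective
  have hmap : (P : Subgroup ↥N).map (K.subtype.comp N.subtype) = (S : Subgroup G) ⊓ H := by
    rw [← map_map, hP, subgroupOf_map_subtype, map_inf_eq _ _ K.subtype K.subtype_injective, hT,
      hNdef, subgroupOf_map_subtype, subgroupOf_map_subtype, inf_eq_left.2 hHK, inf_assoc,
      inf_eq_right.2 hHK]
  have f : ↥((S : Subgroup G) ⊓ H) ≃* (P : Subgroup ↥N) :=
    ((equivMapOfInjective _ _ hi).trans (MulEquiv.subgroupCongr hmap)).symm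
  rcases @sylow_shape _ _ _ A hA hC P with ⟨n, hn, ⟨g⟩⟩ | ⟨n, hn, hc, x, y, hx, hy, hxy⟩
  · exact Or.inl ⟨n, hn, ⟨f.trans g⟩⟩
  · refine Or.inr ⟨n, hn, (Nat.card_congr f.toEquiv).trans hc, f.symm x, f.symm y,
      (f.symm.orderOf_eq x).trans hx, (f.symm.orderOf_eq y).trans hy, ?_⟩
    rw [← map_inv, ← map_mul, ← map_mul, hxy, map_pow]

theorem isSolvable_centralizer (hN : ∀ N : Subgroup G, Cfsg.IsTwoLocal N → Group.IsSolvable N)
    {t : G} (ht : orderOf t = 2) : Group.IsSolvable ↥(centralizer ({t} : Set G)) := by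
  haveI : Fact (Nat.Prime 2) := ⟨Nat.prime_two⟩
  haveI := hN (normalizer (zpowers t : Set G)) ⟨zpowers t,
    IsPGroup.of_card (n := 1) (by rw [Nat.card_zpowers, ht, pow_one]),
    fun h => by rw [zpowers_eq_bot.1 h, orderOf_one] at ht; omega, rfl⟩
  have hle : centralizer ({t} : Set G) ≤ normalizer (zpowers t : Set G) := by
    rw [← centralizer_closure, ← zpowers_eq_closure]
    exact centralizer_le_normalizer _
  exact Group.isSolvable_of_isSolvable_injective (inclusion_injective hle)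

theorem omegaZ_map_mem {S : Subgroup G} {g x : G}
    (hx : x ∈ ZCGroup.omegaZ (S.map (MulAut.conj g).toMonoidHom)) :
    g⁻¹ * x * g ∈ ZCGroup.omegaZ S := by
  obtain ⟨⟨y, hy, rfl⟩, hc, h2⟩ := hx
  have e : g⁻¹ * (MulAut.conj g).toMonoidHom y * g = y := by simp [mul_assoc]
  rw [e]
  refine ⟨hy, fun s hs => ?_, (MulAut.conj g).injective ?_⟩
  · exact (hc _ ⟨s, hs, rfl⟩).of_map (f := (MulAut.conj g).toMonoidHom) (MulAut.conj g).injective
  · rw [map_one, map_mul]
    exact h2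

/-- The characteristic 2 case, applied to `O²(G) Ω₁(Z(S))`. -/
theorem charTwo_case' (heven : Even (Nat.card G))
    (hN : ∀ N : Subgroup G, Cfsg.IsTwoLocal N → Group.IsSolvable N)
    (hZ : ∀ S : Sylow 2 G, centralizer (ZCGroup.omegaZ (S : Subgroup G) : Set G) ≤
      normalizer ((S : Subgroup G) : Set G))
    (hO' : Cfsg.pPrimeCore 2 G = ⊥) (hO : Cfsg.pCore 2 G = ⊥) (S : Sylow 2 G)
    (hL : Cfsg.IsCharacteristicTwoType ↥(Cfsg.pResidual 2 G ⊔ ZCGroup.omegaZ (S : Subgroup G))) :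
    (∃ M : Subgroup ↥(Cfsg.pResidual 2 G), Cfsg.IsStronglyEmbedded M) ∨
      ((∃ n : ℕ, 2 ≤ n ∧ Nonempty (↥((S : Subgroup G) ⊓ Cfsg.pResidual 2 G) ≃* DihedralGroup n)) ∨
        Cfsg.IsQuasiDihedral ↥((S : Subgroup G) ⊓ Cfsg.pResidual 2 G)) := by
  haveI : Fact (Nat.Prime 2) := ⟨Nat.prime_two⟩
  set R := Cfsg.pResidual 2 G with hR
  set Z := ZCGroup.omegaZ (S : Subgroup G) with hZdef
  haveI : R.Normal := CfsgLib.PResidual.pResidual_normal 2
  have hsur := CfsgLib.ResidualFixedCount.residual_sup_sylow S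
  haveI : (R ⊔ Z).Normal := by
    refine ⟨fun x hx g => ?_⟩
    have hg : g ∈ R ⊔ (S : Subgroup G) := by
      rw [hR, hsur]
      exact mem_top g
    have hnorm : R ⊔ (S : Subgroup G) ≤ normalizer ((R ⊔ Z : Subgroup G) : Set G) := by
      refine sup_le (le_sup_left.trans le_normalizer) fun s hs => ?_
      refine ZCGroup.mem_normalizer_of_map_le ?_
      rw [Subgroup.map_sup]
      refine sup_le_sup ?_ ?_
      · rintro _ ⟨r, hr, rfl⟩
        exact (inferInstance : R.Normal).conj_mem r hr s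
      · rintro _ ⟨w, hw, rfl⟩
        show s * w * s⁻¹ ∈ Z
        rw [(hw.2.1 s hs).eq, mul_inv_cancel_right]
        exact hw
    exact (mem_normalizer_iff.1 (hnorm hg) x).1 hx
  refine charTwo_case (R ⊔ Z) le_sup_left (ZCGroup.residual_even heven hO' hO) hL hN hZ
    (fun S' x hx => ?_) hO S
  obtain ⟨g, hg⟩ := MulAction.exists_smul_eq G S S'
  rw [← hg] at hx
  have h := (inferInstance : (R ⊔ Z).Normal).conj_mem _
    (le_sup_right (a := R) (omegaZ_map_mem hx : g⁻¹ * x * g ∈ Z)) g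
  simpa [mul_assoc] using h

end CfsgLib.SolvTwoLocals
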